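import Cfsg.Agent.H305.CC.Torus0
import Cfsg.Agent.H118.CC.Form

/-!
# S4793, TORUS: the exact statement
-/

set_option autoImplicit false

open Cfsg

namespace Cfsg.Agent.H305.CC

open Module Cfsg.Agent.H603.CC

universe u v

variable {F : Type u} {V : Type v} [Field F] [AddCommGroup V] [Module F V] {q : ℕ} {σ : F →+* F}
  {B : V →ₛₗ[σ] V →ₗ[F] F} [Finite F] [Finite V]

theorem exists_torus (h : HS q σ B) {m : ℕ} (hn : finrank F V = 2 * m + 1) (hm : 1 ≤ m)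
    (hq : ¬ (m = 1 ∧ q = 2)) :
    ∃ (E : Submodule F V) (f : V) (T : Subgroup (UU B)) (τ : UU B), IsTS B E ∧ finrank F E = m ∧ B f f = 1 ∧
      f ∈ perp B E ∧ τ ∈ T ∧ (∀ t ∈ T, ac B t f = f) ∧ (∀ t ∈ T, ∀ e ∈ E, ac B t e ∈ E) ∧
      (∀ s ∈ T, ∀ t ∈ T, s * t = t * s) ∧
      (∀ g : UU B, g * τ = τ * g → ∃ t ∈ T, ∃ ρ ∈ Ref B f, g = t * ρ) ∧
      Nat.card T = q ^ (2 * m) - 1 ∧ Nat.card (T ⊓ (Zs B ⊔ Ref B f) : Subgroup (UU B)) = q + 1 ∧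
      ∀ r, 1 ≤ r → r ≤ m → ∃ C : E →ₛₗ[σ] E →ₗ[F] F, C.IsSymm ∧ finrank F (LinearMap.ker C) + r = m ∧
        ∀ t (ht : t ∈ T) (hte : ∀ e ∈ E, ac B t e ∈ E),
          (∀ e e' : E, C ⟨ac B t e, hte e e.2⟩ ⟨ac B t e', hte e' e'.2⟩ = C e e') → t ∈ Zs B ⊔ Ref B f := by
  obtain ⟨K, fK, hK, aK, hKm⟩ := exists_field F hm
  refine exists_torus_of (K := K) h hn hm hq hKm fun r hr1 hrm => ?_
  obtain ⟨C, h1, h2, h3⟩ := H118.CC.exists_form_field (F := F) (K := K) h.two_le h.card h.sig r hr1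
    (by rw [hKm]; exact hrm)
  exact ⟨C, h1, by rw [h2, hKm], h3⟩

end Cfsg.Agent.H305.CC
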