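import Cfsg.Agent.H603.CC.Defs
import Cfsg.Agent.ClassicalGeometry.HermOrthonormal

/-!
# S4793, TORUS: the model `K × K × F`

`K / F` an extension of degree `m`, `s x = x ^ q`; the hermitian form
`λ (s a * b') + σ (λ (s a' * b)) + σ c * c'` on `K × K × F`, and the action of `Kˣ` on it.
-/

set_option autoImplicit false

open Cfsg

namespace Cfsg.Agent.H305.CC

open Module Cfsg.Agent.H603.CC

universe u v w

/-- nondegenerate hermitian spaces of the same dimension are isometric. -/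
theorem exists_isometry {F : Type u} {V : Type v} {W : Type w} [Field F] [Finite F] [AddCommGroup V] [Module F V]
    [Finite V] [AddCommGroup W] [Module F W] [Finite W] {q : ℕ} {σ : F →+* F} {B : V →ₛₗ[σ] V →ₗ[F] F}
    {B₀ : W →ₛₗ[σ] W →ₗ[F] F} (h : HS q σ B) (h₀ : HS q σ B₀) (hd : finrank F W = finrank F V) :
    ∃ Φ : W ≃ₗ[F] V, ∀ x y, B (Φ x) (Φ y) = B₀ x y := by
  have hV : FiniteDimensional F V := inferInstance
  have hW : FiniteDimensional F W := inferInstance
  obtain ⟨b, hb⟩ := ClassicalGeometry.HermOrthonormal.exists_orthonormal_basis h.ne_id h.inv B h.symm h.sep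
  obtain ⟨b₀, hb₀⟩ := ClassicalGeometry.HermOrthonormal.exists_orthonormal_basis h₀.ne_id h₀.inv B₀ h₀.symm h₀.sep
  let Φ : W ≃ₗ[F] V := b₀.equiv b (finCongr hd)
  have hΦ : ∀ i, Φ (b₀ i) = b (finCongr hd i) := fun i => Basis.equiv_apply b₀ i b (finCongr hd)
  refine ⟨Φ, ?_⟩
  let C : W →ₛₗ[σ] W →ₗ[F] F := LinearMap.compl₂ (B.comp Φ.toLinearMap) Φ.toLinearMap
  have hC : C = B₀ := by
    refine b₀.ext fun i => b₀.ext fun j => ?_
    show B (Φ (b₀ i)) (Φ (b₀ j)) = B₀ (b₀ i) (b₀ j)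
    rw [hΦ, hΦ, hb, hb₀]
    simp only [EmbeddingLike.apply_eq_iff_eq]
  intro x y
  rw [← hC]
  rfl

section Frob

variable {F K : Type*} [Field F] [Finite F] [Field K] [Algebra F K] {q : ℕ}

/-- the Frobenius endomorphism `x ↦ x ^ q` of an extension. -/
theorem exists_frob (h2 : 2 ≤ q) (hF : Nat.card F = q ^ 2) : ∃ s : K →+* K, ∀ x, s x = x ^ q := by
  obtain ⟨p, hp⟩ := CharP.exists F
  have := Fintype.ofFinite F
  obtain ⟨n, hpp, hn⟩ := FiniteField.card F p
  have hprime : Fact p.Prime := ⟨hpp⟩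
  have hK : CharP K p := charP_of_injective_algebraMap (algebraMap F K).injective p
  have hd : q ∣ p ^ (n : ℕ) := by
    rw [← hn, ← Nat.card_eq_fintype_card, hF]
    exact dvd_pow_self _ two_ne_zero
  obtain ⟨j, -, rfl⟩ := (Nat.dvd_prime_pow hpp).1 hd
  exact ⟨iterateFrobenius K p j, fun x => iterateFrobenius_def p j x⟩

end Frob

section Model

variable {F : Type u} {K : Type w} [Field F] [Field K] [Algebra F K] {q : ℕ} {σ : F →+* F}

/-- the data of the model -/
structure MD (q : ℕ) (σ : F →+* F) (s : K →+* K) (lam : K →ₗ[F] F) : Prop where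
  two_le : 2 ≤ q
  card : Nat.card F = q ^ 2
  sig : ∀ a : F, σ a = a ^ q
  inv : ∀ a : F, σ (σ a) = a
  pow : ∀ x, s x = x ^ q
  lam : lam ≠ 0

variable {s : K →+* K} {lam : K →ₗ[F] F}

theorem MD.smul (h : MD q σ s lam) (c : F) (x : K) : s (c • x) = σ c • s x := by
  rw [Algebra.smul_def, map_mul, Algebra.smul_def, h.pow (algebraMap F K c), h.sig, map_pow]

theorem MD.bij (_h : MD q σ s lam) [Finite K] : Function.Bijective s :=
  Finite.injective_iff_bijective.1 s.injective

/-- the hermitian form -/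
noncomputable def Bm (h : MD q σ s lam) : (K × K × F) →ₛₗ[σ] (K × K × F) →ₗ[F] F :=
  LinearMap.mk₂'ₛₗ σ (RingHom.id F)
    (fun u v => lam (s u.1 * v.2.1) + σ (lam (s v.1 * u.2.1)) + σ u.2.2 * v.2.2)
    (by
      intro a b c
      simp only [Prod.fst_add, Prod.snd_add, map_add, add_mul, mul_add]
      ring)
    (by
      intro c a b
      simp only [Prod.smul_fst, Prod.smul_snd, h.smul, smul_mul_assoc, mul_smul_comm, map_smul, smul_eq_mul, map_mul]
      ring)
    (by
      intro a b c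
      simp only [Prod.fst_add, Prod.snd_add, map_add, add_mul, mul_add]
      ring)
    (by
      intro c a b
      simp only [Prod.smul_fst, Prod.smul_snd, h.smul, smul_mul_assoc, mul_smul_comm, map_smul, smul_eq_mul, map_mul,
        h.inv, RingHom.id_apply]
      ring)

theorem Bm_apply (h : MD q σ s lam) (a b a' b' : K) (c c' : F) :
    Bm h (a, b, c) (a', b', c') = lam (s a * b') + σ (lam (s a' * b)) + σ c * c' := rfl

/-- the pairing is perfect -/
theorem MD.eq_zero (h : MD q σ s lam) {x : K} (hx : ∀ y, lam (x * y) = 0) : x = 0 := by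
  by_contra hne
  apply h.lam
  ext y
  have := hx (x⁻¹ * y)
  rw [← mul_assoc, mul_inv_cancel₀ hne, one_mul] at this
  exact this

theorem hs_Bm (h : MD q σ s lam) [Finite K] : HS q σ (Bm h) := by
  refine ⟨h.two_le, h.card, h.sig, ⟨?_⟩, ?_⟩
  · rintro ⟨a, b, c⟩ ⟨a', b', c'⟩
    rw [Bm_apply, Bm_apply, map_add, map_add, h.inv, map_mul σ, h.inv]
    ring
  · rintro ⟨a, b, c⟩ hx
    have h1 : s a = 0 := h.eq_zero fun y => by
      have := hx (0, y, 0)
      rw [Bm_apply] at this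
      simpa using this
    have h2 : b = 0 := by
      apply h.eq_zero
      intro y
      obtain ⟨z, rfl⟩ := h.bij.2 y
      have := hx (z, 0, 0)
      rw [Bm_apply] at this
      simp only [mul_zero, map_zero, add_zero, zero_add] at this
      rw [mul_comm]
      exact (map_eq_zero σ).1 this
    have h3 : c = 0 := by
      have := hx (0, 0, 1)
      rw [Bm_apply] at this
      simpa using this
    have h4 : a = 0 := (map_eq_zero s).1 h1
    rw [h2, h3, h4]
    rfl

/-! ### The action of `Kˣ` -/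

/-- `t'= (t ^ q)⁻¹` -/
def dual (s : K →+* K) : Kˣ →* Kˣ := invMonoidHom.comp (Units.map (s : K →* K))

theorem coe_dual (s : K →+* K) (t : Kˣ) : ((dual s t : Kˣ) : K) = (s t)⁻¹ := by
  show (((Units.map (s : K →* K) t)⁻¹ : Kˣ) : K) = _
  rw [Units.val_inv_eq_inv_val]
  rfl

/-- the action of `Kˣ` on the model -/
def gt (F : Type u) [Field F] [Algebra F K] (s : K →+* K) : Kˣ →* ((K × K × F) ≃ₗ[F] (K × K × F)) where
  toFun t := (DistribMulAction.toLinearEquiv F K t).prodCongr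
    ((DistribMulAction.toLinearEquiv F K (dual s t)).prodCongr (LinearEquiv.refl F F))
  map_one' := by
    ext x
    all_goals simp
  map_mul' a b := by
    apply LinearEquiv.ext
    rintro ⟨x, y, z⟩
    simp [mul_smul]

theorem gt_apply (t : Kˣ) (a b : K) (c : F) : gt F s t (a, b, c) = ((t : K) * a, (s t)⁻¹ * b, c) := by
  rw [← coe_dual]
  rfl

theorem gt_isom (h : MD q σ s lam) (t : Kˣ) (x y : K × K × F) : Bm h (gt F s t x) (gt F s t y) = Bm h x y := by
  obtain ⟨a, b, c⟩ := x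
  obtain ⟨a', b', c'⟩ := y
  have hs : s t ≠ 0 := (map_ne_zero s).2 t.ne_zero
  rw [gt_apply, gt_apply, Bm_apply, Bm_apply]
  have h1 : s ((t : K) * a) * ((s t)⁻¹ * b') = s a * b' := by
    rw [map_mul]; field_simp
  have h2 : s ((t : K) * a') * ((s t)⁻¹ * b) = s a' * b := by
    rw [map_mul]; field_simp
  rw [h1, h2]

/-- the map `x ↦ x ^ (- q)` is not additive. -/
theorem exists_not_add [Finite K] (_h : MD q σ s lam) (h4 : 4 < Nat.card K) {y₀ : K}
    (hy : ∀ x y : K, x ≠ 0 → y ≠ 0 → x + y ≠ 0 → (s (x + y))⁻¹ * y₀ = (s x)⁻¹ * y₀ + (s y)⁻¹ * y₀) : y₀ = 0 := by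
  by_contra hne
  -- all elements other than `0, -1` are roots of `X ^ 2 + X + 1`
  have key : ∀ x : K, x ≠ 0 → x + 1 ≠ 0 → x ^ 2 + x + 1 = 0 := by
    intro x hx hx1
    have h1 := hy x 1 hx one_ne_zero hx1
    have h2 : (s (x + 1))⁻¹ = (s x)⁻¹ + (s 1)⁻¹ := by
      apply mul_right_cancel₀ hne
      rw [h1]; ring
    rw [← map_inv₀, ← map_inv₀, ← map_inv₀, ← map_add] at h2
    have h3 := s.injective h2
    rw [inv_one] at h3
    field_simp at h3
    linear_combination -h3
  have hfin := Fintype.ofFinite K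
  classical
  let P : Polynomial K := Polynomial.X ^ 2 + Polynomial.X + 1
  have hPd : P.natDegree = 2 := by
    show (Polynomial.X ^ 2 + Polynomial.X + 1 : Polynomial K).natDegree = 2
    compute_degree!
  have hP0 : P ≠ 0 := by
    intro h0
    rw [h0] at hPd
    simp at hPd
  have h1 : (Finset.univ : Finset K) ⊆ {0, -1} ∪ P.roots.toFinset := by
    intro x _
    rw [Finset.mem_union, Finset.mem_insert, Finset.mem_singleton, Multiset.mem_toFinset, Polynomial.mem_roots hP0]
    by_cases hx : x = 0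
    · exact Or.inl (Or.inl hx)
    · by_cases hx1 : x + 1 = 0
      · exact Or.inl (Or.inr (eq_neg_of_add_eq_zero_left hx1))
      · right
        rw [Polynomial.IsRoot.def]
        show (Polynomial.X ^ 2 + Polynomial.X + 1 : Polynomial K).eval x = 0
        rw [Polynomial.eval_add, Polynomial.eval_add, Polynomial.eval_pow, Polynomial.eval_X, Polynomial.eval_one]
        exact key x hx hx1
  have h2 := Finset.card_le_card h1
  have h3 := Finset.card_union_le ({0, -1} : Finset K) P.roots.toFinset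
  have h5 : ({0, -1} : Finset K).card ≤ 2 := Finset.card_le_two
  have h6 : P.roots.toFinset.card ≤ 2 := by
    refine (Multiset.toFinset_card_le _).trans ((Polynomial.card_roots' _).trans hPd.le)
  rw [Finset.card_univ, ← Nat.card_eq_fintype_card] at h2
  omega

/-- the endomorphisms commuting with the action of `Kˣ` are diagonal. -/
theorem of_comm [Finite K] (h : MD q σ s lam) (h4 : 4 < Nat.card K) (g : (K × K × F) →ₗ[F] (K × K × F))
    (hg : ∀ t : Kˣ, ∀ x, g (gt F s t x) = gt F s t (g x)) :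
    ∃ (k k' : K) (c : F), ∀ a b d, g (a, b, d) = (k * a, k' * b, c * d) := by
  -- an element different from `0, -1`
  obtain ⟨w, hw0, hw1⟩ : ∃ w : K, w ≠ 0 ∧ w + 1 ≠ 0 := by
    by_contra hcon
    push Not at hcon
    have hfin := Fintype.ofFinite K
    classical
    have h1 : (Finset.univ : Finset K) ⊆ {0, -1} := by
      intro x _
      rw [Finset.mem_insert, Finset.mem_singleton]
      by_cases hx : x = 0
      · exact Or.inl hx
      · exact Or.inr (eq_neg_of_add_eq_zero_left (hcon x hx))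
    have h2 := Finset.card_le_card h1
    have h5 : ({0, -1} : Finset K).card ≤ 2 := Finset.card_le_two
    rw [Finset.card_univ, ← Nat.card_eq_fintype_card] at h2
    omega
  -- the first summand
  obtain ⟨k, hk⟩ : ∃ k : K, ∀ x : K, g (x, 0, 0) = (k * x, 0, 0) := by
    obtain ⟨k, y₀, z₀, hk⟩ : ∃ k y₀ z₀, g (1, 0, 0) = (k, y₀, z₀) := ⟨_, _, _, rfl⟩
    have h1 : ∀ x : K, x ≠ 0 → g (x, 0, 0) = (x * k, (s x)⁻¹ * y₀, z₀) := by
      intro x hx
      have h2 := hg (Units.mk0 x hx) (1, 0, 0)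
      rw [gt_apply, hk, gt_apply, mul_one, mul_zero, Units.val_mk0] at h2
      exact h2
    have h2 : ∀ x y : K, x ≠ 0 → y ≠ 0 → x + y ≠ 0 →
        (s (x + y))⁻¹ * y₀ = (s x)⁻¹ * y₀ + (s y)⁻¹ * y₀ ∧ z₀ = z₀ + z₀ := by
      intro x y hx hy hxy
      have h3 := map_add g (x, 0, 0) (y, 0, 0)
      rw [Prod.mk_add_mk, Prod.mk_add_mk, add_zero, add_zero, h1 _ hxy, h1 _ hx, h1 _ hy, Prod.mk_add_mk,
        Prod.mk_add_mk, Prod.mk.injEq, Prod.mk.injEq] at h3
      exact h3.2
    have hy0 : y₀ = 0 := exists_not_add h h4 fun x y hx hy hxy => (h2 x y hx hy hxy).1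
    have hz0 : z₀ = 0 := by
      have := (h2 w 1 hw0 one_ne_zero hw1).2
      simpa using this
    refine ⟨k, fun x => ?_⟩
    by_cases hx : x = 0
    · rw [hx, mul_zero]
      exact map_zero g
    · rw [h1 x hx, hy0, hz0, mul_zero, mul_comm]
  -- the second summand
  obtain ⟨k', hk'⟩ : ∃ k' : K, ∀ x : K, g (0, x, 0) = (0, k' * x, 0) := by
    obtain ⟨x₀, k', z₀, hk'⟩ : ∃ x₀ k' z₀, g (0, 1, 0) = (x₀, k', z₀) := ⟨_, _, _, rfl⟩
    have h1 : ∀ x : K, x ≠ 0 → g (0, (s x)⁻¹, 0) = (x * x₀, (s x)⁻¹ * k', z₀) := by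
      intro x hx
      have h2 := hg (Units.mk0 x hx) (0, 1, 0)
      rw [gt_apply, hk', gt_apply, mul_one, mul_zero, Units.val_mk0] at h2
      exact h2
    have h2 : ∀ x y : K, x ≠ 0 → y ≠ 0 → x + y ≠ 0 → ∃ z : K, z ≠ 0 ∧ (s z)⁻¹ = (s x)⁻¹ + (s y)⁻¹ ∧
        z * x₀ = (x + y) * x₀ ∧ z₀ = z₀ + z₀ := by
      intro x y hx hy hxy
      have hsx : s x ≠ 0 := (map_ne_zero s).2 hx
      have hsy : s y ≠ 0 := (map_ne_zero s).2 hy
      obtain ⟨z, hz⟩ := h.bij.2 ((s x)⁻¹ + (s y)⁻¹)⁻¹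
      have hne : (s x)⁻¹ + (s y)⁻¹ ≠ 0 := by
        intro h0
        apply hxy
        apply s.injective
        rw [map_zero, map_add]
        field_simp at h0
        linear_combination h0
      have hz0 : z ≠ 0 := by
        rintro rfl
        rw [map_zero] at hz
        exact hne (inv_eq_zero.1 hz.symm)
      have hz' : (s z)⁻¹ = (s x)⁻¹ + (s y)⁻¹ := by rw [hz, inv_inv]
      have h3 := map_add g (0, (s x)⁻¹, 0) (0, (s y)⁻¹, 0)
      rw [Prod.mk_add_mk, Prod.mk_add_mk, add_zero, add_zero, ← hz', h1 _ hz0, h1 _ hx, h1 _ hy, Prod.mk_add_mk,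
        Prod.mk_add_mk, Prod.mk.injEq, Prod.mk.injEq] at h3
      exact ⟨z, hz0, hz', by rw [h3.1]; ring, h3.2.2⟩
    have hx0 : x₀ = 0 := by
      by_contra hne
      have h3 := exists_not_add h h4 (y₀ := x₀) fun x y hx hy hxy => by
        obtain ⟨z, hz0, hz1, hz2, -⟩ := h2 x y hx hy hxy
        rw [← mul_right_cancel₀ hne hz2, hz1, add_mul]
      exact hne h3
    have hz0 : z₀ = 0 := by
      obtain ⟨-, -, -, -, h3⟩ := h2 w 1 hw0 one_ne_zero hw1
      simpa using h3
    refine ⟨k', fun x => ?_⟩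
    by_cases hx : x = 0
    · rw [hx, mul_zero]
      exact map_zero g
    · obtain ⟨z, hz⟩ := h.bij.2 x⁻¹
      have hz0' : z ≠ 0 := by
        rintro rfl
        rw [map_zero] at hz
        exact hx (inv_eq_zero.1 hz.symm)
      have h3 := h1 z hz0'
      rw [hz, inv_inv, hx0, hz0, mul_zero, mul_comm x k'] at h3
      exact h3
  -- the third summand
  obtain ⟨c, hc⟩ : ∃ c : F, ∀ d : F, g (0, 0, d) = (0, 0, c * d) := by
    obtain ⟨x₀, y₀, c, hc⟩ : ∃ x₀ y₀ c, g (0, 0, 1) = (x₀, y₀, c) := ⟨_, _, _, rfl⟩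
    obtain ⟨z, hz0, hz1⟩ : ∃ z : K, z ≠ 0 ∧ z ≠ 1 := by
      by_cases hw : w = 1
      · -- `1 + 1 ≠ 0`, so `1 + 1 ≠ 1`
        subst hw
        refine ⟨1 + 1, hw1, fun h0 => ?_⟩
        simp at h0
      · exact ⟨w, hw0, hw⟩
    have h2 := hg (Units.mk0 z hz0) (0, 0, 1)
    rw [gt_apply, hc, gt_apply, mul_zero, mul_zero, hc, Units.val_mk0, Prod.mk.injEq, Prod.mk.injEq] at h2
    have hx0 : x₀ = 0 := by
      by_contra hne
      apply hz1
      exact (mul_right_cancel₀ hne (by rw [one_mul]; exact h2.1)).symm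
    have hy0 : y₀ = 0 := by
      by_contra hne
      apply hz1
      have h3 : (s z)⁻¹ = 1 := (mul_right_cancel₀ hne (by rw [one_mul]; exact h2.2.1)).symm
      apply s.injective
      rw [map_one]
      exact inv_eq_one.1 h3
    refine ⟨c, fun d => ?_⟩
    have h3 : ((0, 0, d) : K × K × F) = d • (0, 0, 1) := by simp
    rw [h3, map_smul, hc, hx0, hy0]
    simp [mul_comm]
  refine ⟨k, k', c, fun a b d => ?_⟩
  have h1 : ((a, b, d) : K × K × F) = (a, 0, 0) + ((0, b, 0) + (0, 0, d)) := by simp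
  rw [h1, map_add, map_add, hk, hk', hc]
  simp

end Model

end Cfsg.Agent.H305.CC
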