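import Cfsg.Agent.H305.CC.Model

/-!
# S4793, TORUS

`exists_torus_of` : the torus `T = Kˣ` in the unitary group of dimension `2 m + 1`, from the forms of
`exists_form_field`.
-/

set_option autoImplicit false

open Cfsg

namespace Cfsg.Agent.H305.CC

open Module Cfsg.Agent.H603.CC

universe u v w

/-- the statement of `exists_form_field` -/
def FormField {F : Type u} {K : Type w} [Field F] [Field K] [Algebra F K] (σ : F →+* F) (m : ℕ) : Prop :=
  ∀ r, 1 ≤ r → r ≤ m → ∃ C : K →ₛₗ[σ] K →ₗ[F] F, C.IsSymm ∧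
      finrank F (LinearMap.ker C) + r = m ∧
      ∀ t : K, t ≠ 0 → (∀ x y, C (t * x) (t * y) = C x y) → ∃ c : F, algebraMap F K c = t

section Torus

variable {F : Type u} {V : Type v} {K : Type w} [Field F] [AddCommGroup V] [Module F V] [Field K] [Algebra F K]
  {q : ℕ} {σ : F →+* F} {B : V →ₛₗ[σ] V →ₗ[F] F} {s : K →+* K} {lam : K →ₗ[F] F}

variable (h : MD q σ s lam) {Φ : (K × K × F) ≃ₗ[F] V} (hΦ : ∀ x y, B (Φ x) (Φ y) = Bm h x y)

/-- the torus -/
noncomputable def th (h : MD q σ s lam) (hΦ : ∀ x y, B (Φ x) (Φ y) = Bm h x y) : Kˣ →* UU B where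
  toFun t := mkU (Φ.symm.trans ((gt F s t).trans Φ)) (fun x y => by
    rw [LinearEquiv.trans_apply, LinearEquiv.trans_apply, LinearEquiv.trans_apply, LinearEquiv.trans_apply, hΦ,
      gt_isom h, ← hΦ, LinearEquiv.apply_symm_apply, LinearEquiv.apply_symm_apply])
  map_one' := by
    refine ac_ext fun x => ?_
    rw [ac_mkU, LinearEquiv.trans_apply, LinearEquiv.trans_apply, map_one]
    exact Φ.apply_symm_apply x
  map_mul' a b := by
    refine ac_ext fun x => ?_
    rw [ac_mul, ac_mkU, ac_mkU, ac_mkU, LinearEquiv.trans_apply, LinearEquiv.trans_apply, LinearEquiv.trans_apply,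
      LinearEquiv.trans_apply, LinearEquiv.trans_apply, LinearEquiv.trans_apply, LinearEquiv.symm_apply_apply, map_mul]
    rfl

theorem ac_th (t : Kˣ) (x : K × K × F) : ac B (th h hΦ t) (Φ x) = Φ (gt F s t x) := by
  show Φ (gt F s t (Φ.symm (Φ x))) = _
  rw [LinearEquiv.symm_apply_apply]

theorem th_injective : Function.Injective (th h hΦ) := by
  intro a b hab
  have h1 := ac_th h hΦ a (1, 0, 0)
  rw [hab, ac_th h hΦ b (1, 0, 0)] at h1
  have h2 := Φ.injective h1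
  rw [gt_apply, gt_apply, mul_one, mul_one, Prod.mk.injEq] at h2
  exact Units.ext h2.1.symm

/-- the totally singular subspace -/
def EE (Φ : (K × K × F) ≃ₗ[F] V) : Submodule F V :=
  (LinearMap.range (LinearMap.inl F K (K × F))).map Φ.toLinearMap

theorem mem_EE {x : V} : x ∈ EE Φ ↔ ∃ a : K, x = Φ (a, 0, 0) := by
  constructor
  · rintro ⟨_, ⟨a, rfl⟩, rfl⟩
    exact ⟨a, rfl⟩
  · rintro ⟨a, rfl⟩
    exact ⟨_, ⟨a, rfl⟩, rfl⟩

/-- the equivalence `K ≃ E` -/
noncomputable def eE (Φ : (K × K × F) ≃ₗ[F] V) : K ≃ₗ[F] EE Φ :=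
  LinearEquiv.ofBijective
    ({ toFun := fun a => ⟨Φ (a, 0, 0), mem_EE.2 ⟨a, rfl⟩⟩
       map_add' := fun a b => Subtype.ext (by
        show Φ (a + b, 0, 0) = Φ (a, 0, 0) + Φ (b, 0, 0)
        rw [← map_add]
        simp)
       map_smul' := fun c a => Subtype.ext (by
        show Φ (c • a, 0, 0) = c • Φ (a, 0, 0)
        rw [← map_smul]
        simp) } : K →ₗ[F] EE Φ)
    (by
      constructor
      · intro a b hab
        have h1 := Φ.injective (congrArg Subtype.val hab)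
        exact (Prod.mk.injEq _ _ _ _ ▸ h1).1
      · rintro ⟨x, hx⟩
        obtain ⟨a, rfl⟩ := mem_EE.1 hx
        exact ⟨a, rfl⟩)

theorem coe_eE (a : K) : ((eE Φ a : EE Φ) : V) = Φ (a, 0, 0) := rfl

include h hΦ in
theorem isTS_EE : IsTS B (EE Φ) := by
  intro x hx y hy
  obtain ⟨a, rfl⟩ := mem_EE.1 hx
  obtain ⟨b, rfl⟩ := mem_EE.1 hy
  rw [hΦ, Bm_apply]
  simp

include h hΦ in
theorem B_ff : B (Φ (0, 0, 1)) (Φ (0, 0, 1)) = 1 := by
  rw [hΦ, Bm_apply]
  simp

include h hΦ in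
theorem mem_perp_f {x : V} : x ∈ perp B (Submodule.span F {Φ (0, 0, 1)}) ↔ ∃ a b : K, x = Φ (a, b, 0) := by
  constructor
  · intro hx
    obtain ⟨⟨a, b, c⟩, rfl⟩ := Φ.surjective x
    have h1 := mem_perp.1 hx _ (Submodule.mem_span_singleton_self _)
    rw [hΦ, Bm_apply] at h1
    simp only [map_zero, zero_mul, mul_zero, add_zero, zero_add, map_one, one_mul] at h1
    exact ⟨a, b, by rw [h1]⟩
  · rintro ⟨a, b, rfl⟩
    rw [mem_perp]
    intro w hw
    obtain ⟨c, rfl⟩ := Submodule.mem_span_singleton.1 hw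
    rw [LinearMap.map_smulₛₗ₂, hΦ, Bm_apply]
    simp

/-- elements acting as a scalar on the orthogonal complement of `f`. -/
def SC (B : V →ₛₗ[σ] V →ₗ[F] F) (f : V) : Subgroup (UU B) where
  carrier := {g | ∃ c : F, c ≠ 0 ∧ ∀ x ∈ perp B (Submodule.span F {f}), ac B g x = c • x}
  mul_mem' := by
    rintro a b ⟨c, hc0, hc⟩ ⟨d, hd0, hd⟩
    refine ⟨c * d, mul_ne_zero hc0 hd0, fun x hx => ?_⟩
    rw [ac_mul, hd x hx, ac_smul, hc x hx, smul_smul, mul_comm]
  one_mem' := ⟨1, one_ne_zero, fun x _ => by rw [ac_one, one_smul]⟩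
  inv_mem' := by
    rintro a ⟨c, hc0, hc⟩
    refine ⟨c⁻¹, inv_ne_zero hc0, fun x hx => ?_⟩
    have h1 := hc x hx
    have h2 := ac_inv_ac a x
    rw [h1, ac_smul] at h2
    nth_rewrite 2 [← h2]
    rw [smul_smul, inv_mul_cancel₀ hc0, one_smul]

theorem le_SC [Nontrivial V] (f : V) : Zs B ⊔ Ref B f ≤ SC B f := by
  refine sup_le ?_ ?_
  · rintro g ⟨c, hc⟩
    refine ⟨c, ?_, fun x _ => hc x⟩
    rintro rfl
    obtain ⟨x, hx⟩ := exists_ne (0 : V)
    apply hx
    have h1 := ac_inv_ac g x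
    rw [hc, zero_smul, ac_zero] at h1
    exact h1.symm
  · intro g hg
    exact ⟨1, one_ne_zero, fun x hx => by rw [one_smul]; exact mem_FixS.1 hg x hx⟩

/-- `θ(c)` for `c ∈ F` with `c ^ (q + 1) = 1` lies in `Z R_f`. -/
theorem th_mem (c : Fˣ) (hc : σ c * c = 1) :
    th h hΦ (Units.map (algebraMap F K : F →* K) c) ∈ Zs B ⊔ Ref B (Φ (0, 0, 1)) := by
  let z : UU B := mkU (LinearEquiv.smulOfUnit c) (fun x y => by
    show B ((c : F) • x) ((c : F) • y) = _
    rw [LinearMap.map_smulₛₗ₂, map_smul, smul_eq_mul, smul_eq_mul, ← mul_assoc, hc, one_mul])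
  have hz : z ∈ Zs B := ⟨c, fun x => rfl⟩
  have hzx : ∀ x, ac B z x = (c : F) • x := fun x => rfl
  have h1 : z⁻¹ * th h hΦ (Units.map (algebraMap F K : F →* K) c) ∈ Ref B (Φ (0, 0, 1)) := by
    rw [Ref, mem_FixS]
    intro x hx
    obtain ⟨a, b, rfl⟩ := (mem_perp_f h hΦ).1 hx
    rw [ac_mul, ac_th, gt_apply]
    have h2 : Φ (((Units.map (algebraMap F K : F →* K) c : Kˣ) : K) * a,
        (s ((Units.map (algebraMap F K : F →* K) c : Kˣ) : K))⁻¹ * b, (0 : F)) = ac B z (Φ (a, b, 0)) := by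
      rw [hzx, ← map_smul]
      congr 1
      have h3 : ((Units.map (algebraMap F K : F →* K) c : Kˣ) : K) = algebraMap F K c := rfl
      have h4 : (s (algebraMap F K (c : F)))⁻¹ = algebraMap F K c := by
        have h5 : s (algebraMap F K (c : F)) = algebraMap F K (σ c) := by rw [h.pow, h.sig, map_pow]
        rw [h5, ← map_inv₀]
        congr 1
        exact inv_eq_of_mul_eq_one_right hc
      rw [h3, h4, Prod.smul_mk, Prod.smul_mk, Algebra.smul_def, Algebra.smul_def, smul_zero]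
    rw [h2, ac_inv_ac]
  have h2 : th h hΦ (Units.map (algebraMap F K : F →* K) c) =
      z * (z⁻¹ * th h hΦ (Units.map (algebraMap F K : F →* K) c)) := by group
  rw [h2]
  exact Subgroup.mul_mem_sup hz h1

/-- `θ(t) ∈ Z R_f` iff `t ∈ F` has norm one. -/
theorem th_mem_iff {t : Kˣ} : th h hΦ t ∈ Zs B ⊔ Ref B (Φ (0, 0, 1)) ↔
    ∃ c : Fˣ, σ c * c = 1 ∧ Units.map (algebraMap F K : F →* K) c = t := by
  constructor
  · intro ht
    have hnt : Nontrivial V := Φ.injective.nontrivial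
    obtain ⟨c, hc0, hc⟩ := le_SC _ ht
    have h1 := hc (Φ (1, 0, 0)) ((mem_perp_f h hΦ).2 ⟨1, 0, rfl⟩)
    have h2 := hc (Φ (0, 1, 0)) ((mem_perp_f h hΦ).2 ⟨0, 1, rfl⟩)
    rw [ac_th, ← map_smul] at h1 h2
    have h3 := Φ.injective h1
    have h4 := Φ.injective h2
    rw [gt_apply, Prod.smul_mk, Prod.smul_mk, Prod.mk.injEq, Prod.mk.injEq] at h3 h4
    have h5 : (t : K) = algebraMap F K c := by
      have := h3.1
      rwa [mul_one, Algebra.smul_def, mul_one] at this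
    have h6 : (s t)⁻¹ = algebraMap F K c := by
      have := h4.2.1
      rwa [mul_one, Algebra.smul_def, mul_one] at this
    refine ⟨Units.mk0 c hc0, ?_, Units.ext h5.symm⟩
    apply (algebraMap F K).injective
    rw [map_mul, Units.val_mk0, map_one, h.sig, map_pow, ← h.pow, ← h5]
    have hst : s t ≠ 0 := (map_ne_zero s).2 t.ne_zero
    nth_rewrite 2 [h5]
    rw [← h6, mul_inv_cancel₀ hst]
  · rintro ⟨c, hc, rfl⟩
    exact th_mem h hΦ c hc

end Torus

section Main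

variable {F : Type u} {V : Type v} {K : Type w} [Field F] [AddCommGroup V] [Module F V] [Field K] [Algebra F K]
  {q : ℕ} {σ : F →+* F} {B : V →ₛₗ[σ] V →ₗ[F] F} [Finite F] [Finite V] [Finite K]

omit [Finite V] in
theorem card_norm_one (hB : HS q σ B) : Nat.card {c : Fˣ // σ c * c = 1} = q + 1 := by
  have h1 := IsCyclic.card_powMonoidHom_ker (G := Fˣ) (q + 1)
  have h2 : Nat.card Fˣ = (q + 1) * (q - 1) := by
    have := hB.two_le
    rw [Nat.card_units, hB.card]
    obtain ⟨k, rfl⟩ : ∃ k, q = k + 1 := ⟨q - 1, by omega⟩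
    have h3 : (k + 1) ^ 2 = (k + 1 + 1) * k + 1 := by ring
    rw [h3]
    rfl
  rw [h2, Nat.gcd_eq_right (Dvd.intro _ rfl)] at h1
  rw [← h1]
  refine Nat.card_congr (Equiv.subtypeEquivRight fun c => ?_)
  rw [MonoidHom.mem_ker, powMonoidHom_apply, Units.ext_iff, Units.val_pow_eq_pow_val, Units.val_one, pow_succ, hB.sig]

theorem exists_torus_of (h : HS q σ B) {m : ℕ} (hn : finrank F V = 2 * m + 1) (hm : 1 ≤ m)
    (hq : ¬ (m = 1 ∧ q = 2)) (hK : finrank F K = m) (hform : FormField (F := F) (K := K) σ m) :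
    ∃ (E : Submodule F V) (f : V) (T : Subgroup (UU B)) (τ : UU B), IsTS B E ∧ finrank F E = m ∧ B f f = 1 ∧
      f ∈ perp B E ∧ τ ∈ T ∧ (∀ t ∈ T, ac B t f = f) ∧ (∀ t ∈ T, ∀ e ∈ E, ac B t e ∈ E) ∧
      (∀ s ∈ T, ∀ t ∈ T, s * t = t * s) ∧
      (∀ g : UU B, g * τ = τ * g → ∃ t ∈ T, ∃ ρ ∈ Ref B f, g = t * ρ) ∧
      Nat.card T = q ^ (2 * m) - 1 ∧ Nat.card (T ⊓ (Zs B ⊔ Ref B f) : Subgroup (UU B)) = q + 1 ∧
      ∀ r, 1 ≤ r → r ≤ m → ∃ C : E →ₛₗ[σ] E →ₗ[F] F, C.IsSymm ∧ finrank F (LinearMap.ker C) + r = m ∧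
        ∀ t (ht : t ∈ T) (hte : ∀ e ∈ E, ac B t e ∈ E),
          (∀ e e' : E, C ⟨ac B t e, hte e e.2⟩ ⟨ac B t e', hte e' e'.2⟩ = C e e') → t ∈ Zs B ⊔ Ref B f := by
  have hq2 := h.two_le
  obtain ⟨s, hs⟩ := exists_frob (K := K) hq2 h.card
  obtain ⟨lam, hlam⟩ : ∃ lam : K →ₗ[F] F, lam ≠ 0 := by
    by_contra hcon
    push Not at hcon
    have h1 := (Module.forall_dual_apply_eq_zero_iff F (1 : K)).1 fun φ => by rw [hcon φ]; rfl
    exact one_ne_zero h1
  have hMD : MD q σ s lam := ⟨hq2, h.card, h.sig, h.inv, hs, hlam⟩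
  have hfK : FiniteDimensional F K := inferInstance
  have hd : finrank F (K × K × F) = finrank F V := by
    rw [Module.finrank_prod, Module.finrank_prod, hK, finrank_self, hn]
    ring
  obtain ⟨Φ, hΦ⟩ := exists_isometry h (hs_Bm hMD) hd
  have hcK : Nat.card K = q ^ (2 * m) := by
    rw [Module.natCard_eq_pow_finrank (K := F) (V := K), hK, h.card, pow_mul]
  have h4 : 4 < Nat.card K := by
    rw [hcK]
    rcases Nat.lt_or_ge m 2 with hm2 | hm2
    · have hm1 : m = 1 := by omega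
      subst hm1
      have hq3 : 3 ≤ q := by
        by_contra hcon
        exact hq ⟨rfl, by omega⟩
      have := Nat.pow_le_pow_left hq3 2
      rw [mul_one]
      omega
    · have h5 : q ^ 3 ≤ q ^ (2 * m) := Nat.pow_le_pow_right (by omega) (by omega)
      have h6 : 2 ^ 3 ≤ q ^ 3 := Nat.pow_le_pow_left hq2 3
      omega
  obtain ⟨ζ, hζ⟩ := IsCyclic.exists_generator (α := Kˣ)
  refine ⟨EE Φ, Φ (0, 0, 1), (th hMD hΦ).range, th hMD hΦ ζ, isTS_EE hMD hΦ, ?_, B_ff hMD hΦ, ?_, ⟨ζ, rfl⟩, ?_, ?_, ?_,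
    ?_, ?_, ?_, ?_⟩
  · rw [← (eE Φ).finrank_eq, hK]
  · rw [mem_perp]
    intro w hw
    obtain ⟨a, rfl⟩ := mem_EE.1 hw
    rw [hΦ, Bm_apply]
    simp
  · rintro _ ⟨t, rfl⟩
    rw [ac_th, gt_apply, mul_zero, mul_zero]
  · rintro _ ⟨t, rfl⟩ e he
    obtain ⟨a, rfl⟩ := mem_EE.1 he
    rw [ac_th, gt_apply, mul_zero]
    exact mem_EE.2 ⟨_, rfl⟩
  · rintro _ ⟨a, rfl⟩ _ ⟨b, rfl⟩
    rw [← map_mul, mul_comm, map_mul]
  · -- the centralizer
    intro g hg
    have hcomm : ∀ t : Kˣ, g * th hMD hΦ t = th hMD hΦ t * g := by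
      intro t
      obtain ⟨n, rfl⟩ := Subgroup.mem_zpowers_iff.1 (hζ t)
      rw [map_zpow]
      exact (Commute.zpow_right (show Commute g (th hMD hΦ ζ) from hg) n).eq
    let g₀ : (K × K × F) →ₗ[F] (K × K × F) := (Φ.trans ((g : V ≃ₗ[F] V).trans Φ.symm)).toLinearMap
    have hg₀ : ∀ x, Φ (g₀ x) = ac B g (Φ x) := fun x => Φ.apply_symm_apply _
    obtain ⟨k, k', c, hkc⟩ := of_comm hMD h4 g₀ (fun t x => by
      apply Φ.injective
      rw [hg₀, ← ac_th hMD hΦ, ← ac_th hMD hΦ, hg₀, ← ac_mul, ← ac_mul, hcomm])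
    have hgΦ : ∀ a b d, ac B g (Φ (a, b, d)) = Φ (k * a, k' * b, c * d) := fun a b d => by rw [← hg₀, hkc]
    have hk0 : k ≠ 0 := by
      rintro rfl
      have h1 := ac_inv_ac g (Φ ((1 : K), (0 : K), (0 : F)))
      rw [hgΦ, zero_mul, mul_zero, mul_zero] at h1
      have h2 : (Φ ((0 : K), (0 : K), (0 : F)) : V) = 0 := map_zero Φ
      rw [h2, ac_zero, ← h2] at h1
      have h3 := Φ.injective h1
      rw [Prod.mk.injEq] at h3
      exact zero_ne_one h3.1
    have hkk : s k * k' = 1 := by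
      have h1 : ∀ y : K, lam ((s k * k' - 1) * y) = 0 := by
        intro y
        have h2 := form_ac g (Φ (1, 0, 0)) (Φ (0, y, 0))
        rw [hgΦ, hgΦ, hΦ, hΦ, Bm_apply, Bm_apply] at h2
        simp only [mul_one, mul_zero, map_zero, add_zero, map_one, one_mul] at h2
        rw [sub_mul, one_mul, map_sub, mul_assoc, h2, sub_self]
      exact sub_eq_zero.1 (hMD.eq_zero h1)
    refine ⟨th hMD hΦ (Units.mk0 k hk0), ⟨_, rfl⟩, (th hMD hΦ (Units.mk0 k hk0))⁻¹ * g, ?_, by group⟩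
    rw [Ref, mem_FixS]
    intro x hx
    obtain ⟨a, b, rfl⟩ := (mem_perp_f hMD hΦ).1 hx
    have h1 : ac B g (Φ (a, b, 0)) = ac B (th hMD hΦ (Units.mk0 k hk0)) (Φ (a, b, 0)) := by
      rw [hgΦ, ac_th, gt_apply, Units.val_mk0, mul_zero, ← eq_inv_of_mul_eq_one_right hkk]
    rw [ac_mul, h1, ac_inv_ac]
  · have h1 : Nat.card (th hMD hΦ).range = Nat.card Kˣ :=
      (Nat.card_congr ((th hMD hΦ).ofInjective (th_injective hMD hΦ)).toEquiv).symm
    rw [h1, Nat.card_units, hcK]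
  · rw [← card_norm_one h]
    refine (Nat.card_congr (Equiv.ofBijective
      (fun c : {c : Fˣ // σ c * c = 1} => (⟨th hMD hΦ (Units.map (algebraMap F K : F →* K) c), ⟨_, rfl⟩,
        th_mem hMD hΦ c c.2⟩ : ((th hMD hΦ).range ⊓ (Zs B ⊔ Ref B (Φ (0, 0, 1))) : Subgroup (UU B)))) ?_)).symm
    constructor
    · intro a b hab
      have h1 := th_injective hMD hΦ (congrArg Subtype.val hab)
      exact Subtype.ext (Units.map_injective (algebraMap F K).injective h1)
    · rintro ⟨_, ⟨t, rfl⟩, ht⟩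
      obtain ⟨c, hc, rfl⟩ := (th_mem_iff hMD hΦ).1 ht
      exact ⟨⟨c, hc⟩, rfl⟩
  · intro r hr1 hrm
    obtain ⟨C, hC1, hC2, hC3⟩ := hform r hr1 hrm
    let C' : EE Φ →ₛₗ[σ] EE Φ →ₗ[F] F := LinearMap.compl₂ (C.comp (eE Φ).symm.toLinearMap) (eE Φ).symm.toLinearMap
    have hC' : ∀ x y, C' x y = C ((eE Φ).symm x) ((eE Φ).symm y) := fun x y => rfl
    have hC'' : ∀ a b : K, C' (eE Φ a) (eE Φ b) = C a b := fun a b => by
      rw [hC', LinearEquiv.symm_apply_apply, LinearEquiv.symm_apply_apply]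
    refine ⟨C', ⟨fun x y => ?_⟩, ?_, ?_⟩
    · rw [hC', hC']
      exact hC1.eq _ _
    · have h1 : (LinearMap.ker C).map (eE Φ).toLinearMap = LinearMap.ker C' := by
        ext x
        obtain ⟨a, rfl⟩ := (eE Φ).surjective x
        rw [LinearMap.mem_ker]
        constructor
        · rintro ⟨b, hb, hba⟩
          have hab : b = a := (eE Φ).injective hba
          subst hab
          rw [SetLike.mem_coe, LinearMap.mem_ker] at hb
          ext y
          obtain ⟨y, rfl⟩ := (eE Φ).surjective y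
          rw [hC'', hb]
          rfl
        · intro hx
          refine ⟨a, ?_, rfl⟩
          rw [SetLike.mem_coe, LinearMap.mem_ker]
          ext y
          rw [← hC'', hx]
          rfl
      rw [← h1, ← hC2]
      congr 1
      exact LinearEquiv.finrank_map_eq (eE Φ) _
    · rintro _ ⟨t, rfl⟩ hte hinv
      have hte' : ∀ a : K, (⟨ac B (th hMD hΦ t) (eE Φ a : EE Φ), hte _ (eE Φ a).2⟩ : EE Φ) = eE Φ ((t : K) * a) := by
        intro a
        apply Subtype.ext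
        show ac B (th hMD hΦ t) (Φ (a, 0, 0)) = Φ ((t : K) * a, 0, 0)
        rw [ac_th, gt_apply, mul_zero]
      have h1 : ∀ x y, C ((t : K) * x) ((t : K) * y) = C x y := by
        intro x y
        have h2 := hinv (eE Φ x) (eE Φ y)
        rw [hte', hte', hC'', hC''] at h2
        exact h2
      obtain ⟨c, hc⟩ := hC3 t t.ne_zero h1
      have hc0 : c ≠ 0 := by
        rintro rfl
        rw [map_zero] at hc
        exact t.ne_zero hc.symm
      -- `C ≠ 0`
      obtain ⟨x, y, hxy⟩ : ∃ x y, C x y ≠ 0 := by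
        by_contra hcon
        push Not at hcon
        have h2 : LinearMap.ker C = ⊤ := by
          rw [eq_top_iff]
          intro x _
          rw [LinearMap.mem_ker]
          ext y
          exact hcon x y
        rw [h2, finrank_top, hK] at hC2
        omega
      have h2 := h1 x y
      rw [← hc, ← Algebra.smul_def, ← Algebra.smul_def, LinearMap.map_smulₛₗ₂, map_smul, smul_eq_mul, smul_eq_mul,
        ← mul_assoc] at h2
      have h3 : σ c * c = 1 := mul_right_cancel₀ hxy (by rw [h2, one_mul])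
      exact (th_mem_iff hMD hΦ).2 ⟨Units.mk0 c hc0, h3, Units.ext hc⟩

/-- the extension field of degree `m`. -/
theorem exists_field (F : Type u) [Field F] [Finite F] {m : ℕ} (hm : 1 ≤ m) :
    ∃ (K : Type) (_ : Field K) (_ : Finite K) (_ : Algebra F K), finrank F K = m := by
  obtain ⟨p, hp⟩ := CharP.exists F
  have := Fintype.ofFinite F
  obtain ⟨n, hpp, hn⟩ := FiniteField.card F p
  have hprime : Fact p.Prime := ⟨hpp⟩
  have hm0 : NeZero m := ⟨by omega⟩
  exact ⟨FiniteField.Extension F p m, inferInstance, inferInstance, inferInstance, FiniteField.finrank_extension F p m⟩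

end Main

end Cfsg.Agent.H305.CC
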